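import Mathlib
import Cfsg.Agent.Lib.Helper6.M24Syl1

set_option autoImplicit false

/-! # Polycyclic sequences of involutions: normal forms, products over bit masks -/

namespace Cfsg.Agent.Lib.Helper6.Fi23S

open Cfsg.Agent.Lib.Helper6.M24Syl (C gen_mem_C C_mono C_le wp wp_nil wp_cons wp_append wp_mem pc_step
  pc_isPGroup)

section nf
variable {G : Type*} [Group G] [Finite G]

/-- the hypothesis of a polycyclic sequence with factors of order at most two -/
def PcHyp (gen : ℕ → G) (N : ℕ) : Prop :=
  ∀ n < N, (∀ j, j < n → gen n * gen j * (gen n)⁻¹ ∈ C gen 0 n) ∧ gen n * gen n ∈ C gen 0 n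

theorem nf_exists' (gen : ℕ → G) (N : ℕ) (h : PcHyp gen N) :
    ∀ m ≤ N, ∀ y ∈ C gen 0 m, ∃ w : List ℕ, w.Sublist (List.range m) ∧ y = wp gen w := by
  intro m
  induction m with
  | zero =>
    intro _ y hy
    have : C gen 0 0 = ⊥ := by
      unfold C
      rw [Set.Ico_self, Set.image_empty, Subgroup.closure_empty]
    rw [this, Subgroup.mem_bot] at hy
    exact ⟨[], by simp, by rw [hy, wp_nil]⟩
  | succ m ih =>
    intro hm y hy
    rcases pc_step gen m (h m hm).1 (h m hm).2 y hy with h1 | h1
    · obtain ⟨w, hw, rfl⟩ := ih (Nat.le_of_succ_le hm) y h1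
      refine ⟨w, ?_, rfl⟩
      rw [List.range_succ]
      exact hw.trans (List.sublist_append_left _ _)
    · obtain ⟨w, hw, hyw⟩ := ih (Nat.le_of_succ_le hm) _ h1
      refine ⟨w ++ [m], ?_, ?_⟩
      · rw [List.range_succ]
        exact List.Sublist.append hw (List.Sublist.refl _)
      · rw [wp_append, wp_cons, wp_nil, mul_one, ← hyw]
        group

theorem card_C_le (gen : ℕ → G) (N : ℕ) (h : PcHyp gen N) : Nat.card (C gen 0 N) ≤ 2 ^ N := by
  classical
  set S := (List.range N).sublists with hSdef
  have hS : S.length = 2 ^ N := by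
    rw [hSdef, List.length_sublists, List.length_range]
  have hsurj : ∀ y : C gen 0 N, ∃ i : Fin S.length, wp gen (S.get i) = y.1 := by
    intro y
    obtain ⟨w, hw, hy⟩ := nf_exists' gen N h N le_rfl y.1 y.2
    have hmem : w ∈ S := List.mem_sublists.mpr hw
    obtain ⟨i, hi⟩ := List.get_of_mem hmem
    exact ⟨i, by rw [hi, hy]⟩
  choose f hf using hsurj
  have hinj : Function.Injective f := by
    intro y y' e
    apply Subtype.ext
    rw [← hf y, ← hf y', e]
  calc Nat.card (C gen 0 N) ≤ Nat.card (Fin S.length) := Nat.card_le_card_of_injective f hinj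
    _ = 2 ^ N := by rw [Nat.card_eq_fintype_card, Fintype.card_fin, hS]

end nf

section umask
variable {G : Type*} [Group G]

/-- the product of the generators `gen k`, `k < n`, over the bits of a mask -/
def U (gen : ℕ → G) : ℕ → ℕ → G
  | 0, _ => 1
  | n + 1, m => U gen n m * (if m.testBit n then gen n else 1)

theorem U_zero_left (gen : ℕ → G) (m : ℕ) : U gen 0 m = 1 := rfl

theorem U_succ (gen : ℕ → G) (n m : ℕ) :
    U gen (n + 1) m = U gen n m * (if m.testBit n then gen n else 1) := rfl

theorem U_mem (gen : ℕ → G) (n m : ℕ) : U gen n m ∈ C gen 0 n := by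
  induction n with
  | zero => exact (C gen 0 0).one_mem
  | succ n ih =>
    rw [U_succ]
    refine (C gen 0 (n + 1)).mul_mem (C_mono gen le_rfl (Nat.le_succ n) ih) ?_
    split_ifs
    · exact gen_mem_C gen (Nat.zero_le _) (Nat.lt_succ_self n)
    · exact (C gen 0 (n + 1)).one_mem

theorem U_mask_zero (gen : ℕ → G) (n : ℕ) : U gen n 0 = 1 := by
  induction n with
  | zero => rfl
  | succ n ih => rw [U_succ, ih, Nat.zero_testBit]; simp

/-- the generators below `n` commute with each other and are involutions -/
def CommInv (gen : ℕ → G) (n : ℕ) : Prop :=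
  (∀ i < n, ∀ j < n, gen i * gen j = gen j * gen i) ∧ ∀ i < n, gen i * gen i = 1

theorem CommInv.mono {gen : ℕ → G} {n n' : ℕ} (h : CommInv gen n) (hn : n' ≤ n) : CommInv gen n' :=
  ⟨fun i hi j hj => h.1 i (hi.trans_le hn) j (hj.trans_le hn), fun i hi => h.2 i (hi.trans_le hn)⟩

theorem U_comm_gen {gen : ℕ → G} {N : ℕ} (h : CommInv gen N) (n : ℕ) (hn : n ≤ N) (k : ℕ) (hk : k < N)
    (m : ℕ) : U gen n m * gen k = gen k * U gen n m := by
  induction n with
  | zero => simp [U_zero_left]
  | succ n ih =>
    rw [U_succ]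
    have h1 := ih (Nat.le_of_succ_le hn)
    split_ifs
    · rw [mul_assoc, h.1 n (Nat.lt_of_succ_le hn) k hk, ← mul_assoc, h1, mul_assoc]
    · rw [mul_one, h1]

theorem U_comm_U {gen : ℕ → G} {N : ℕ} (h : CommInv gen N) (n n' : ℕ) (hn : n ≤ N) (hn' : n' ≤ N)
    (m m' : ℕ) : U gen n m * U gen n' m' = U gen n' m' * U gen n m := by
  induction n' with
  | zero => simp [U_zero_left]
  | succ n' ih =>
    rw [U_succ]
    have h1 := ih (Nat.le_of_succ_le hn')
    split_ifs
    · rw [← mul_assoc, h1, mul_assoc, U_comm_gen h n hn n' (Nat.lt_of_succ_le hn'), ← mul_assoc]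
    · rw [mul_one, h1]

theorem U_xor {gen : ℕ → G} {N : ℕ} (h : CommInv gen N) (n : ℕ) (hn : n ≤ N) (m m' : ℕ) :
    U gen n (m ^^^ m') = U gen n m * U gen n m' := by
  induction n with
  | zero => simp [U_zero_left]
  | succ n ih =>
    have h1 := ih (Nat.le_of_succ_le hn)
    have hlt : n < N := Nat.lt_of_succ_le hn
    rw [U_succ, U_succ, U_succ, h1, Nat.testBit_xor]
    have hc := U_comm_gen h n (Nat.le_of_succ_le hn) n hlt m'
    cases hb : m.testBit n <;> cases hb' : m'.testBit n
    · simp
    · simp only [Bool.xor_true, Bool.not_false, if_true, Bool.false_eq_true, if_false, mul_one]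
      rw [mul_assoc]
    · simp only [Bool.xor_false, if_true, Bool.false_eq_true, if_false, mul_one]
      calc U gen n m * U gen n m' * gen n = U gen n m * (U gen n m' * gen n) := by rw [mul_assoc]
        _ = U gen n m * (gen n * U gen n m') := by rw [hc]
        _ = U gen n m * gen n * U gen n m' := by rw [mul_assoc]
    · simp only [Bool.xor_true, Bool.not_true, Bool.false_eq_true, if_false, if_true, mul_one]
      calc U gen n m * U gen n m' = U gen n m * (U gen n m' * (gen n * gen n)) := by
            rw [h.2 n hlt, mul_one]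
        _ = U gen n m * ((U gen n m' * gen n) * gen n) := by rw [mul_assoc]
        _ = U gen n m * ((gen n * U gen n m') * gen n) := by rw [hc]
        _ = U gen n m * gen n * (U gen n m' * gen n) := by simp only [mul_assoc]

theorem U_self {gen : ℕ → G} {N : ℕ} (h : CommInv gen N) (n : ℕ) (hn : n ≤ N) (m : ℕ) :
    U gen n m * U gen n m = 1 := by
  rw [← U_xor h n hn, Nat.xor_self, U_mask_zero]

theorem U_two_pow (gen : ℕ → G) (n k : ℕ) (hk : k < n) : U gen n (2 ^ k) = gen k := by
  induction n with
  | zero => exact absurd hk (Nat.not_lt_zero _)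
  | succ n ih =>
    rw [U_succ, Nat.testBit_two_pow]
    rcases Nat.lt_succ_iff_lt_or_eq.mp hk with h | h
    · rw [ih h]
      have : ¬ k = n := Nat.ne_of_lt h
      simp [this]
    · subst h
      have : U gen k (2 ^ k) = 1 := by
        clear ih hk
        have aux : ∀ n' ≤ k, U gen n' (2 ^ k) = 1 := by
          intro n'
          induction n' with
          | zero => intro _; rfl
          | succ n' ih' =>
            intro hle
            rw [U_succ, ih' (Nat.le_of_succ_le hle), Nat.testBit_two_pow]
            have : ¬ k = n' := by omega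
            simp [this]
        exact aux k le_rfl
      rw [this]
      simp

/-- every element of the subgroup generated by commuting involutions is a product over a mask -/
theorem mem_C_iff_U {gen : ℕ → G} {N : ℕ} (h : CommInv gen N) (y : G) :
    y ∈ C gen 0 N ↔ ∃ m < 2 ^ N, y = U gen N m := by
  constructor
  · intro hy
    -- the set of the products over masks is a subgroup
    let S : Subgroup G :=
      { carrier := {y | ∃ m < 2 ^ N, y = U gen N m}
        one_mem' := ⟨0, Nat.two_pow_pos N, (U_mask_zero gen N).symm⟩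
        mul_mem' := by
          rintro _ _ ⟨m, hm, rfl⟩ ⟨m', hm', rfl⟩
          exact ⟨m ^^^ m', Nat.xor_lt_two_pow hm hm', (U_xor h N le_rfl m m').symm⟩
        inv_mem' := by
          rintro _ ⟨m, hm, rfl⟩
          refine ⟨m, hm, ?_⟩
          exact inv_eq_of_mul_eq_one_right (U_self h N le_rfl m) }
    have hle : C gen 0 N ≤ S := by
      apply C_le
      intro k _ hk
      exact ⟨2 ^ k, Nat.pow_lt_pow_right (by norm_num) hk, (U_two_pow gen N k hk).symm⟩
    exact hle hy
  · rintro ⟨m, _, rfl⟩
    exact U_mem gen N m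

end umask

section conj
variable {G : Type*} [Group G]

/-- the sum of the values `c j` over the bits `j < n` of a mask -/
def appX (c : ℕ → ℕ) : ℕ → ℕ → ℕ
  | 0, _ => 0
  | n + 1, m => appX c n m ^^^ (if m.testBit n then c n else 0)

theorem appX_succ (c : ℕ → ℕ) (n m : ℕ) :
    appX c (n + 1) m = appX c n m ^^^ (if m.testBit n then c n else 0) := rfl

/-- an element that conjugates the commuting involutions to products over masks acts on the
products over masks by the matrix of these masks -/
theorem conj_U {gen : ℕ → G} {N : ℕ} (h : CommInv gen N) (a : G) (c : ℕ → ℕ)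
    (hc : ∀ j < N, a * gen j * a⁻¹ = U gen N (c j)) (n : ℕ) (hn : n ≤ N) (m : ℕ) :
    a * U gen n m * a⁻¹ = U gen N (appX c n m) := by
  induction n with
  | zero =>
    rw [U_zero_left, mul_one, mul_inv_cancel]
    exact (U_mask_zero gen N).symm
  | succ n ih =>
    have h1 := ih (Nat.le_of_succ_le hn)
    rw [U_succ, appX_succ, U_xor h N le_rfl]
    have e : ∀ x : G, a * (U gen n m * x) * a⁻¹ = (a * U gen n m * a⁻¹) * (a * x * a⁻¹) := by
      intro x; group
    rw [e, h1]
    split_ifs
    · rw [hc n (Nat.lt_of_succ_le hn)]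
    · rw [mul_one, mul_inv_cancel, U_mask_zero]

end conj

end Cfsg.Agent.Lib.Helper6.Fi23S
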