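import Cfsg.Agent.Lib.Helper6.Fi23S.Fi23S1
import Cfsg.Prelude.Def_Transfer

set_option autoImplicit false

/-! # Elementary abelian subgroups of an extension of an elementary abelian group of order `2¹¹`
by a group of matrices without offenders -/

namespace Cfsg.Agent.Lib.Helper6.Fi23S

/-- the action of a matrix, a list of eleven columns, on a mask -/
def appL (X : List ℕ) (m : ℕ) : ℕ := appX (fun j => X.getD j 0) 11 m

/-- the identity matrix -/
def idM : List ℕ := [1, 2, 4, 8, 16, 32, 64, 128, 256, 512, 1024]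

/-- a matrix other than the identity with a trivial square -/
def isInvo (X : List ℕ) : Bool :=
  (X != idM) && (List.range 11).all (fun j => appL X (X.getD j 0) == 2 ^ j)

/-- commuting matrices -/
def commM (X Y : List ℕ) : Bool :=
  (List.range 11).all (fun j => appL X (Y.getD j 0) == appL Y (X.getD j 0))

/-- the columns of a matrix are the images of the unit vectors -/
def colOK (X : List ℕ) : Bool := X == (List.range 11).map (fun j => appL X (2 ^ j))

/-- the number of the fixed vectors -/
def fixc (X : List ℕ) : ℕ := ((List.range 2048).filter (fun m => appL X m == m)).length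

/-- the number of the common fixed vectors -/
def fixc2 (X Y : List ℕ) : ℕ :=
  ((List.range 2048).filter (fun m => appL X m == m && appL Y m == m)).length

/-- the involutions of a list of matrices -/
def invoL (ML : List (List ℕ)) : List (List ℕ) := ML.filter isInvo

/-- the involutions that commute with at least sixteen involutions -/
def bigL (ML : List (List ℕ)) : List (List ℕ) :=
  (invoL ML).filter (fun X => decide (16 ≤ ((invoL ML).filter (commM X)).length))

theorem card_filter_range (n : ℕ) (p : ℕ → Bool) :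
    ((Finset.range n).filter (fun m => p m = true)).card = ((List.range n).filter p).length := by
  rw [← List.toFinset_card_of_nodup ((List.nodup_range (n := n)).filter _)]
  congr 1
  ext m
  simp

theorem colOK_getD {X : List ℕ} (h : colOK X = true) (j : ℕ) (hj : j < 11) :
    X.getD j 0 = appL X (2 ^ j) := by
  unfold colOK at h
  have e : X = (List.range 11).map (fun j => appL X (2 ^ j)) := by simpa using h
  have hl : j < ((List.range 11).map (fun j => appL X (2 ^ j))).length := by simpa using hj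
  conv_lhs => rw [e]
  rw [List.getD_eq_getElem _ _ hl]
  simp

theorem eq_idM_of_fix {X : List ℕ} (h : colOK X = true) (hfix : ∀ m < 2048, appL X m = m) :
    X = idM := by
  unfold colOK at h
  have e : X = (List.range 11).map (fun j => appL X (2 ^ j)) := by simpa using h
  rw [e]
  have : ∀ j ∈ List.range 11, appL X (2 ^ j) = 2 ^ j := by
    intro j hj
    apply hfix
    have hj' : j < 11 := List.mem_range.mp hj
    calc 2 ^ j < 2 ^ 11 := Nat.pow_lt_pow_right (by norm_num) hj'
      _ = 2048 := by norm_num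
  rw [List.map_congr_left this]
  rfl

section main
variable {G : Type*} [Group G]

/-- the hypotheses: a subgroup `E` of `T` whose elements are numbered by the masks below `2048`,
on which every element of `T` acts by one of the matrices of a list without offenders -/
structure OffHyp (T E : Subgroup G) (u : ℕ → G) (ML : List (List ℕ)) : Prop where
  hu_mem : ∀ m < 2048, u m ∈ E
  hu_surj : ∀ e ∈ E, ∃ m < 2048, e = u m
  hu_inj : ∀ m < 2048, ∀ m' < 2048, u m = u m' → m = m'
  hact : ∀ a ∈ T, ∃ X ∈ ML, (∀ m < 2048, a * u m * a⁻¹ = u (appL X m) ∧ appL X m < 2048) ∧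
    (X = idM → a ∈ E)
  hcol : ∀ X ∈ ML, colOK X = true
  hD1 : ∀ X ∈ invoL ML, fixc X ≤ 128
  hD2 : ∀ X ∈ invoL ML, ∀ Y ∈ invoL ML, X ≠ Y → commM X Y = true → fixc2 X Y ≤ 64
  hD4 : (bigL ML).length ≤ 15

variable [Finite G] {T E : Subgroup G} {u : ℕ → G} {ML : List (List ℕ)}

theorem off_main (h : OffHyp T E u ML) (A : Subgroup G) (hA : A ≤ T)
    (hea : Cfsg.IsElementaryAbelian 2 A) : A ≤ E ∨ Nat.card A ≤ 1024 := by
  classical
  by_cases hAE : A ≤ E
  · exact Or.inl hAE
  right
  obtain ⟨hcomA, hsqA⟩ := hea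
  have hcomm : ∀ a ∈ A, ∀ b ∈ A, a * b = b * a := by
    intro a ha b hb
    have := hcomA.is_comm.comm (⟨a, ha⟩ : A) ⟨b, hb⟩
    exact congrArg Subtype.val this
  have hsq : ∀ a ∈ A, a⁻¹ = a := by
    intro a ha
    have h1 : a ^ 2 = 1 := hsqA a ha
    rw [sq] at h1
    exact inv_eq_of_mul_eq_one_right h1
  -- the matrices of the elements of `A`
  have hex : ∀ a : A, ∃ X ∈ ML, (∀ m < 2048, a.1 * u m * a.1⁻¹ = u (appL X m) ∧ appL X m < 2048) ∧
      (X = idM → a.1 ∈ E) := fun a => h.hact a.1 (hA a.2)
  choose Xf hXML hXact hXid using hex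
  -- an element that centralizes the masks has the identity matrix
  have hcent : ∀ a : A, (∀ m < 2048, a.1 * u m * a.1⁻¹ = u m) → Xf a = idM := by
    intro a hc
    apply eq_idM_of_fix (h.hcol _ (hXML a))
    intro m hm
    have h1 := (hXact a m hm).1
    rw [hc m hm] at h1
    exact (h.hu_inj m hm _ (hXact a m hm).2 h1).symm
  -- involutions
  have hinvo : ∀ a : A, Xf a ≠ idM → Xf a ∈ invoL ML := by
    intro a hne
    unfold invoL
    rw [List.mem_filter]
    refine ⟨hXML a, ?_⟩
    unfold isInvo
    rw [Bool.and_eq_true]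
    refine ⟨by simpa using hne, ?_⟩
    rw [List.all_eq_true]
    intro j hj
    have hj' : j < 11 := List.mem_range.mp hj
    have hlt : 2 ^ j < 2048 := by
      calc 2 ^ j < 2 ^ 11 := Nat.pow_lt_pow_right (by norm_num) hj'
        _ = 2048 := by norm_num
    rw [colOK_getD (h.hcol _ (hXML a)) j hj']
    have h1 := hXact a (2 ^ j) hlt
    have h2 := hXact a _ h1.2
    have h3 : a.1 * (a.1 * u (2 ^ j) * a.1⁻¹) * a.1⁻¹ = u (2 ^ j) := by
      rw [hsq a.1 a.2]
      have e : a.1 * a.1 = 1 := by
        have := hsqA a.1 a.2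
        rwa [sq] at this
      calc a.1 * (a.1 * u (2 ^ j) * a.1) * a.1 = (a.1 * a.1) * u (2 ^ j) * (a.1 * a.1) := by group
        _ = u (2 ^ j) := by rw [e, one_mul, mul_one]
    rw [h1.1, h2.1] at h3
    have := h.hu_inj _ h2.2 _ hlt h3
    simpa using this
  -- commuting
  have hcommM : ∀ a b : A, commM (Xf a) (Xf b) = true := by
    intro a b
    unfold commM
    rw [List.all_eq_true]
    intro j hj
    have hj' : j < 11 := List.mem_range.mp hj
    have hlt : 2 ^ j < 2048 := by
      calc 2 ^ j < 2 ^ 11 := Nat.pow_lt_pow_right (by norm_num) hj'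
        _ = 2048 := by norm_num
    rw [colOK_getD (h.hcol _ (hXML a)) j hj', colOK_getD (h.hcol _ (hXML b)) j hj']
    have ha1 := hXact a (2 ^ j) hlt
    have hb1 := hXact b (2 ^ j) hlt
    have ha2 := hXact a _ hb1.2
    have hb2 := hXact b _ ha1.2
    have e : a.1 * (b.1 * u (2 ^ j) * b.1⁻¹) * a.1⁻¹ = b.1 * (a.1 * u (2 ^ j) * a.1⁻¹) * b.1⁻¹ := by
      have hc := hcomm a.1 a.2 b.1 b.2
      calc a.1 * (b.1 * u (2 ^ j) * b.1⁻¹) * a.1⁻¹ = (a.1 * b.1) * u (2 ^ j) * (a.1 * b.1)⁻¹ := by group
        _ = (b.1 * a.1) * u (2 ^ j) * (b.1 * a.1)⁻¹ := by rw [hc]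
        _ = b.1 * (a.1 * u (2 ^ j) * a.1⁻¹) * b.1⁻¹ := by group
    rw [hb1.1, ha1.1, ha2.1, hb2.1] at e
    have := h.hu_inj _ ha2.2 _ hb2.2 e
    simpa using this
  -- equal matrices
  have hfib : ∀ a b : A, Xf a = Xf b → a.1⁻¹ * b.1 ∈ A ⊓ E := by
    intro a b hab
    have hmem : a.1⁻¹ * b.1 ∈ A := A.mul_mem (A.inv_mem a.2) b.2
    refine ⟨hmem, ?_⟩
    apply hXid ⟨_, hmem⟩
    apply hcent
    intro m hm
    have ha1 := (hXact a m hm).1
    have hb1 := (hXact b m hm).1
    rw [← hab, ← ha1] at hb1
    show (a.1⁻¹ * b.1) * u m * (a.1⁻¹ * b.1)⁻¹ = u m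
    calc (a.1⁻¹ * b.1) * u m * (a.1⁻¹ * b.1)⁻¹ = a.1⁻¹ * (b.1 * u m * b.1⁻¹) * a.1 := by group
      _ = a.1⁻¹ * (a.1 * u m * a.1⁻¹) * a.1 := by rw [hb1]
      _ = u m := by group
  -- the masks of the elements of `A ⊓ E`
  have hmask : ∀ e : (A ⊓ E : Subgroup G), ∃ m < 2048, e.1 = u m := fun e => h.hu_surj e.1 e.2.2
  choose mk hmk_lt hmk_eq using hmask
  have hmk_inj : Function.Injective mk := by
    intro e e' hee
    apply Subtype.ext
    rw [hmk_eq e, hmk_eq e', hee]
  have hmk_fix : ∀ (e : (A ⊓ E : Subgroup G)) (a : A), appL (Xf a) (mk e) = mk e := by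
    intro e a
    have h1 := hXact a (mk e) (hmk_lt e)
    rw [← hmk_eq e] at h1
    have hc := hcomm a.1 a.2 e.1 e.2.1
    have h2 : a.1 * e.1 * a.1⁻¹ = e.1 := by rw [hc]; group
    rw [h2, hmk_eq e] at h1
    exact (h.hu_inj _ (hmk_lt e) _ h1.2 h1.1).symm
  let _ : Fintype A := Fintype.ofFinite _
  let _ : Fintype (A ⊓ E : Subgroup G) := Fintype.ofFinite _
  have hA0_1 : ∀ a : A, Nat.card (A ⊓ E : Subgroup G) ≤ fixc (Xf a) := by
    intro a
    unfold fixc
    rw [← card_filter_range, Nat.card_eq_fintype_card, ← Finset.card_univ]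
    apply Finset.card_le_card_of_injOn mk
    · intro e _
      simp only [Finset.coe_filter, Finset.mem_range, Set.mem_ofPred_eq, beq_iff_eq]
      exact ⟨hmk_lt e, hmk_fix e a⟩
    · exact hmk_inj.injOn
  have hA0_2 : ∀ a b : A, Nat.card (A ⊓ E : Subgroup G) ≤ fixc2 (Xf a) (Xf b) := by
    intro a b
    unfold fixc2
    rw [← card_filter_range, Nat.card_eq_fintype_card, ← Finset.card_univ]
    apply Finset.card_le_card_of_injOn mk
    · intro e _
      simp only [Finset.coe_filter, Finset.mem_range, Set.mem_ofPred_eq, Bool.and_eq_true, beq_iff_eq]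
      exact ⟨hmk_lt e, hmk_fix e a, hmk_fix e b⟩
    · exact hmk_inj.injOn
  -- the fibres
  have hcard : Nat.card A ≤ Nat.card (A ⊓ E : Subgroup G) * (Finset.univ.image Xf).card := by
    rw [Nat.card_eq_fintype_card (α := A), ← Finset.card_univ]
    apply Finset.card_le_mul_card_image
    intro X hX
    obtain ⟨a, _, rfl⟩ := Finset.mem_image.mp hX
    rw [Nat.card_eq_fintype_card, ← Finset.card_univ]
    apply Finset.card_le_card_of_injOn (fun b => if hb : Xf a = Xf b then
      (⟨a.1⁻¹ * b.1, hfib a b hb⟩ : (A ⊓ E : Subgroup G)) else 1)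
    · intro b _; exact Finset.mem_univ _
    · intro b hb b' hb' hbb
      have hb1 : Xf a = Xf b := by
        have := (Finset.mem_filter.mp hb).2
        exact this.symm
      have hb2 : Xf a = Xf b' := by
        have := (Finset.mem_filter.mp hb').2
        exact this.symm
      dsimp only at hbb
      rw [dif_pos hb1, dif_pos hb2] at hbb
      have := congrArg Subtype.val hbb
      exact Subtype.ext (mul_left_cancel this)
  -- an element outside `E`
  obtain ⟨a0, ha0A, ha0E⟩ := SetLike.not_le_iff_exists.mp hAE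
  set x0 : A := ⟨a0, ha0A⟩ with hx0
  have hX0 : Xf x0 ≠ idM := fun hid => ha0E (hXid x0 hid)
  have hX0i : Xf x0 ∈ invoL ML := hinvo x0 hX0
  -- the number of the matrices
  have hRcard : (Finset.univ.image Xf).card ≤ 16 := by
    set R := Finset.univ.image Xf with hR
    have hsub : ∀ X ∈ R.erase idM, X ∈ invoL ML := by
      intro X hX
      obtain ⟨hne, hXR⟩ := Finset.mem_erase.mp hX
      obtain ⟨a, _, rfl⟩ := Finset.mem_image.mp hXR
      exact hinvo a hne
    have hle15 : (R.erase idM).card ≤ 15 := by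
      by_contra hgt
      rw [not_le] at hgt
      have hbig : ∀ X ∈ R.erase idM, X ∈ (bigL ML).toFinset := by
        intro X hX
        rw [List.mem_toFinset]
        unfold bigL
        rw [List.mem_filter]
        refine ⟨hsub X hX, ?_⟩
        rw [decide_eq_true_eq]
        have hsub2 : R.erase idM ⊆ ((invoL ML).filter (commM X)).toFinset := by
          intro Y hY
          rw [List.mem_toFinset, List.mem_filter]
          refine ⟨hsub Y hY, ?_⟩
          obtain ⟨_, hXR⟩ := Finset.mem_erase.mp hX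
          obtain ⟨_, hYR⟩ := Finset.mem_erase.mp hY
          obtain ⟨a, _, rfl⟩ := Finset.mem_image.mp hXR
          obtain ⟨b, _, rfl⟩ := Finset.mem_image.mp hYR
          exact hcommM a b
        calc 16 ≤ (R.erase idM).card := hgt
          _ ≤ ((invoL ML).filter (commM X)).toFinset.card := Finset.card_le_card hsub2
          _ ≤ ((invoL ML).filter (commM X)).length := List.toFinset_card_le _
      have h1 : (R.erase idM).card ≤ (bigL ML).toFinset.card := Finset.card_le_card hbig
      have h2 := List.toFinset_card_le (bigL ML)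
      have h3 := h.hD4
      omega
    have := Finset.pred_card_le_card_erase (s := R) (a := idM)
    omega
  by_cases h3 : ∃ b : A, Xf b ≠ idM ∧ Xf b ≠ Xf x0
  · obtain ⟨b, hb1, hb2⟩ := h3
    have hbi : Xf b ∈ invoL ML := hinvo b hb1
    have h64 : Nat.card (A ⊓ E : Subgroup G) ≤ 64 :=
      (hA0_2 x0 b).trans (h.hD2 _ hX0i _ hbi (Ne.symm hb2) (hcommM x0 b))
    calc Nat.card A ≤ Nat.card (A ⊓ E : Subgroup G) * (Finset.univ.image Xf).card := hcard
      _ ≤ 64 * 16 := Nat.mul_le_mul h64 hRcard
      _ = 1024 := by norm_num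
  · rw [not_exists] at h3
    have h3 : ∀ b : A, Xf b ≠ idM → Xf b = Xf x0 := fun b hb => by
      have := h3 b
      rw [not_and, not_not] at this
      exact this hb
    have h128 : Nat.card (A ⊓ E : Subgroup G) ≤ 128 := (hA0_1 x0).trans (h.hD1 _ hX0i)
    have hR2 : (Finset.univ.image Xf).card ≤ 2 := by
      have hsub : Finset.univ.image Xf ⊆ {idM, Xf x0} := by
        intro X hX
        obtain ⟨b, _, rfl⟩ := Finset.mem_image.mp hX
        by_cases hb : Xf b = idM
        · rw [hb]; simp
        · rw [h3 b hb]; simp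
      exact (Finset.card_le_card hsub).trans Finset.card_le_two
    calc Nat.card A ≤ Nat.card (A ⊓ E : Subgroup G) * (Finset.univ.image Xf).card := hcard
      _ ≤ 128 * 2 := Nat.mul_le_mul h128 hR2
      _ ≤ 1024 := by norm_num

end main

end Cfsg.Agent.Lib.Helper6.Fi23S
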