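import Cfsg.Agent.Lib.Helper6.Spor.Fi23Ord
import Cfsg.Agent.Lib.Helper6.LB3
import Cfsg.Agent.Lib.Helper6.Fi23S.Fi23S2

set_option autoImplicit false
set_option maxRecDepth 1000000

/-! # A Sylow `2`-subgroup of the presented group `Fi₂₃`: the data

Eighteen involutions, words in the ten generators: the first eleven are commuting transpositions
that generate the largest normal `2`-subgroup `2¹¹` of the stabilizer `2¹¹.M₂₃` of a set of `23`
commuting transpositions, the other seven generate a Sylow `2`-subgroup of the group `M₂₃` modulo that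
subgroup.  The relations of the polycyclic presentation are checked on the five points of a base. -/

namespace Cfsg.Agent.Lib.Helper6.Fi23S

open Cfsg.Agent.Lib.Helper6.TC Cfsg.Agent.Lib.Helper6.TCD.Fi23a

/-- the words of the eighteen generators -/
def gwL : List (List ℕ) := [
  [0],
  [2],
  [4],
  [6],
  [8],
  [3, 8, 4, 3, 2, 3, 4, 8, 3],
  [5, 4, 3, 8, 6, 5, 4, 3, 2, 3, 4, 5, 6, 8, 3, 4, 5],
  [1, 2, 3, 8, 4, 3, 2, 1, 0, 1, 2, 3, 4, 8, 3, 2, 1],
  [5, 4, 1, 2, 3, 8, 6, 5, 4, 3, 2, 1, 0, 1, 2, 3, 4, 5, 6, 8, 3, 2, 1, 4, 5],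
  [1, 2, 3, 8, 4, 5, 3, 4, 2, 3, 8, 6, 5, 4, 3, 2, 1, 2, 3, 4, 5, 6, 8, 3, 2, 4, 3, 5, 4, 8, 3, 2, 1],
  [9, 8, 3, 4, 2, 3, 8, 9, 5, 4, 1, 2, 3, 8, 6, 5, 4, 3, 2, 1, 0, 1, 2, 3, 4, 5, 6, 8, 3, 2, 1, 4, 5, 9, 8, 3, 2, 4, 3, 8, 9],
  [1, 2, 0, 1],
  [5, 6, 4, 5],
  [3, 4, 2, 3, 1, 2, 0, 1, 5, 6, 4, 5, 3, 4, 2, 3],
  [9, 8, 3, 4, 2, 3, 8, 9, 1, 2, 0, 1, 5, 6, 4, 5, 9, 8, 3, 4, 2, 3, 8, 9],
  [3, 4, 2, 3, 9, 8, 3, 4, 2, 3, 8, 9, 1, 2, 0, 1, 5, 6, 4, 5, 3, 4, 2, 3, 9, 8, 3, 4, 2, 3, 8, 9],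
  [3, 4, 2, 3, 1, 2, 0, 1, 9, 8, 3, 4, 2, 3, 8, 9, 1, 2, 0, 1, 3, 4, 2, 3],
  [3, 4, 2, 3, 9, 8, 3, 4, 2, 3, 8, 9]]

/-- the word of a generator -/
def gw (k : ℕ) : List ℕ := gwL.getD k []

/-- the normal words of the conjugates `gen n * gen j * gen n`, `j < n` -/
def WL : List (List (List ℕ)) := [
  [],
  [[0]],
  [[0], [1]],
  [[0], [1], [2]],
  [[0], [1], [2], [3]],
  [[0], [1], [2], [3], [4]],
  [[0], [1], [2], [3], [4], [5]],
  [[0], [1], [2], [3], [4], [5], [6]],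
  [[0], [1], [2], [3], [4], [5], [6], [7]],
  [[0], [1], [2], [3], [4], [5], [6], [7], [8]],
  [[0], [1], [2], [3], [4], [5], [6], [7], [8], [9]],
  [[1], [0], [2], [3], [4], [7], [8], [5], [6], [0, 1, 5, 6, 7, 8, 9], [1, 4, 6, 7, 9, 10]],
  [[0], [1], [3], [2], [4], [6], [5], [8], [7], [9], [0, 2, 3, 4, 9, 10], [11]],
  [[2], [3], [0], [1], [1, 2, 3, 7, 8, 9], [5], [7], [6], [8], [0, 1, 3, 4, 6, 8], [10], [12], [11]],
  [[2], [3], [0], [1], [4], [10], [1, 4, 6, 7, 9, 10], [0, 2, 3, 4, 9, 10], [0, 1, 2, 3, 5, 8, 10], [0, 1, 2, 4, 5, 7], [5], [12], [11], [13]],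
  [[1], [0], [3], [2], [0, 3, 4, 5, 6, 7, 10], [5], [0, 2, 3, 4, 9, 10], [1, 4, 6, 7, 9, 10], [8], [0, 1, 2, 4, 5, 7], [10], [1, 2, 3, 4, 5, 6, 9, 11, 13, 14], [1, 2, 3, 4, 5, 6, 9, 12, 13, 14], [13], [14]],
  [[1], [0], [2], [3], [0, 1, 2, 4, 5, 7], [5], [0, 2, 3, 4, 9, 10], [7], [0, 1, 2, 3, 5, 8, 10], [0, 3, 4, 5, 6, 7, 10], [10], [11], [1, 2, 3, 4, 5, 6, 9, 12, 13, 14], [13, 15], [14, 15], [15]],
  [[0], [1], [2], [3], [5], [4], [9], [0, 1, 2, 4, 5, 7], [0, 3, 4, 5, 6, 7, 10], [6], [1, 2, 3, 7, 8, 9], [16], [15, 16], [14], [13], [11, 12], [11]]]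

/-- the normal word of a conjugate -/
def W (n j : ℕ) : List ℕ := (WL.getD n []).getD j []

/-- the matrices of the seven upper generators on the first eleven -/
def cmL : List (List ℕ) := [
  [2, 1, 4, 8, 16, 128, 256, 32, 64, 995, 1746],
  [1, 2, 8, 4, 16, 64, 32, 256, 128, 512, 1565],
  [4, 8, 1, 2, 910, 32, 128, 64, 256, 347, 1024],
  [4, 8, 1, 2, 16, 1024, 1746, 1565, 1327, 183, 32],
  [2, 1, 8, 4, 1273, 32, 1565, 1746, 256, 183, 1024],
  [2, 1, 4, 8, 183, 32, 1565, 128, 1327, 1273, 1024],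
  [1, 2, 4, 8, 32, 16, 512, 183, 1273, 64, 910]]

/-- the matrix of an upper generator -/
def cmat (n : ℕ) : List ℕ := cmL.getD (n - 11) []

/-- the points of the base -/
def baseL : List ℕ := [2, 1640, 224, 1, 0]

/-- the word of a product of generators -/
def wflat (w : List ℕ) : List ℕ := w.flatMap gw

/-- a word fixes the points of the base -/
noncomputable def chkFix (w : List ℕ) : Bool := baseL.all (fun b => wapp px w b == b)

/-- the relations of the generator `n` -/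
noncomputable def chkRelN (n : ℕ) : Bool :=
  chkFix (gw n ++ gw n) &&
    (List.range n).all (fun j => chkFix (gw n ++ gw j ++ gw n ++ (wflat (W n j)).reverse) &&
      (W n j).all (fun k => decide (k < n)))

theorem rel_ok : (List.range 18).all chkRelN = true := by decide +kernel

theorem gw_lt : ∀ w ∈ gwL, ∀ c ∈ w, c < 10 := by decide

theorem W_low : ∀ n < 11, ∀ j < n, W n j = [j] := by decide

/-- the word of a product over a mask -/
def uw : ℕ → ℕ → List ℕ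
  | 0, _ => []
  | n + 1, m => uw n m ++ (if m.testBit n then gw n else [])

theorem W_up : ∀ n < 18, 11 ≤ n → ∀ j < 11, wflat (W n j) = uw 11 ((cmat n).getD j 0) := by decide

/-- the products over the masks in a range move a point of the base -/
noncomputable def chkU (lo len : ℕ) : Bool :=
  (List.range' lo len).all (fun m => m == 0 || baseL.any (fun b => wapp px (uw 11 m) b != b))

theorem chkU_0 : chkU 0 256 = true := by decide +kernel

theorem chkU_1 : chkU 256 256 = true := by decide +kernel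

theorem chkU_2 : chkU 512 256 = true := by decide +kernel

theorem chkU_3 : chkU 768 256 = true := by decide +kernel

theorem chkU_4 : chkU 1024 256 = true := by decide +kernel

theorem chkU_5 : chkU 1280 256 = true := by decide +kernel

theorem chkU_6 : chkU 1536 256 = true := by decide +kernel

theorem chkU_7 : chkU 1792 256 = true := by decide +kernel

end Cfsg.Agent.Lib.Helper6.Fi23S
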