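import Cfsg.Agent.Lib.Helper6.Fi23S.Fi23S3M

set_option autoImplicit false
set_option maxRecDepth 100000

/-! # A Sylow `2`-subgroup of the presented group `Fi₂₃`: the subgroup and its structure -/

namespace Cfsg.Agent.Lib.Helper6.Fi23S

open Cfsg.Spor Cfsg.Agent.Lib.Helper6.TC Cfsg.Agent.Lib.Helper6.TCD
open Cfsg.Agent.Lib.Helper6.TCP.Fi23 Cfsg.Agent.Lib.Helper6.TCD.Fi23a
open Cfsg.Agent.Lib.Helper6.M24Syl (C gen_mem_C C_mono C_le wp wp_nil wp_cons wp_append wp_mem
  pc_step pc_isPGroup)

/-! ### the matrices are additive -/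

theorem appX_xor (c : ℕ → ℕ) (n m m' : ℕ) :
    appX c n (m ^^^ m') = appX c n m ^^^ appX c n m' := by
  induction n with
  | zero => simp [appX]
  | succ n ih =>
    rw [appX_succ, appX_succ, appX_succ, ih, Nat.testBit_xor]
    cases hb : m.testBit n <;> cases hb' : m'.testBit n <;>
      simp only [Bool.xor_false, Bool.xor_true, Bool.not_false, Bool.not_true, if_true, if_false,
        Bool.false_eq_true, Nat.xor_zero]
    · ac_rfl
    · ac_rfl
    · have : c n ^^^ c n = 0 := Nat.xor_self _
      calc appX c n m ^^^ appX c n m' = appX c n m ^^^ appX c n m' ^^^ (c n ^^^ c n) := by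
            rw [this, Nat.xor_zero]
        _ = appX c n m ^^^ c n ^^^ (appX c n m' ^^^ c n) := by ac_rfl

theorem appX_mask_zero (c : ℕ → ℕ) (n : ℕ) : appX c n 0 = 0 := by
  induction n with
  | zero => rfl
  | succ n ih => rw [appX_succ, ih, Nat.zero_testBit]; simp

theorem appX_lt (c : ℕ → ℕ) (k : ℕ) (hc : ∀ j, c j < 2 ^ k) (n m : ℕ) : appX c n m < 2 ^ k := by
  induction n with
  | zero => exact Nat.two_pow_pos k
  | succ n ih =>
    rw [appX_succ]
    apply Nat.xor_lt_two_pow ih
    split_ifs
    · exact hc n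
    · exact Nat.two_pow_pos k

theorem appL_xor (X : List ℕ) (m m' : ℕ) : appL X (m ^^^ m') = appL X m ^^^ appL X m' :=
  appX_xor _ _ _ _

theorem appL_zero (X : List ℕ) : appL X 0 = 0 := appX_mask_zero _ _

theorem appX_map_additive (f : ℕ → ℕ) (hf0 : f 0 = 0) (hf : ∀ a b, f (a ^^^ b) = f a ^^^ f b)
    (X : List ℕ) (n m : ℕ) :
    appX (fun j => (X.map f).getD j 0) n m = f (appX (fun j => X.getD j 0) n m) := by
  induction n with
  | zero => exact hf0.symm
  | succ n ih =>
    rw [appX_succ, appX_succ, hf, ih]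
    congr 1
    split_ifs
    · conv_lhs => rw [← hf0]
      rw [List.getD_map]
    · exact hf0.symm

/-- the product of matrices -/
theorem appL_map (C' X : List ℕ) (m : ℕ) : appL (X.map (appL C')) m = appL C' (appL X m) :=
  appX_map_additive (appL C') (appL_zero C') (appL_xor C') X 11 m

theorem appL_idM : (List.range 2048).all (fun m => appL idM m == m) = true := by decide +kernel

theorem ML_lt : ML.all (fun X => X.all (fun x => decide (x < 2048))) = true := by decide +kernel

theorem appL_lt {X : List ℕ} (hX : X ∈ ML) (m : ℕ) : appL X m < 2048 := by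
  have h1 := List.all_eq_true.mp ML_lt X hX
  have h2 : ∀ j, (fun j => X.getD j 0) j < 2 ^ 11 := by
    intro j
    show X.getD j 0 < 2 ^ 11
    by_cases hj : j < X.length
    · rw [List.getD_eq_getElem _ _ hj]
      have := List.all_eq_true.mp h1 _ (List.getElem_mem hj)
      simpa using this
    · rw [List.getD_eq_default _ _ (Nat.le_of_not_lt hj)]
      norm_num
  exact appX_lt _ 11 h2 11 m

theorem actF_eq (w : List ℕ) (m : ℕ) (hm : m < 2048) : actF w m = appL (matL w) m := by
  induction w with
  | nil =>
    have := List.all_eq_true.mp appL_idM m (List.mem_range.mpr hm)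
    show m = appL idM m
    simpa using (beq_iff_eq.mp this).symm
  | cons k w ih =>
    show appL (cmat k) (actF w m) = appL ((matL w).map (appL (cmat k))) m
    rw [appL_map, ih]

/-! ### words and elements -/

/-- the element of a word in the ten generators -/
noncomputable def el (w : List ℕ) : Fi23 := PresentedGroup.mk Rels (wordElt gc w)

/-- the letters of a word are columns -/
def Good (w : List ℕ) : Prop := ∀ c ∈ w, c < 10

theorem el_nil : el [] = 1 := by
  unfold el
  rw [wordElt_nil, map_one]

theorem el_append (w w' : List ℕ) : el (w ++ w') = el w * el w' := by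
  unfold el
  rw [wordElt_append, map_mul]

theorem good_append {w w' : List ℕ} (h : Good w) (h' : Good w') : Good (w ++ w') := by
  intro c hc
  rcases List.mem_append.mp hc with h1 | h1
  · exact h c h1
  · exact h' c h1

theorem good_reverse {w : List ℕ} (h : Good w) : Good w.reverse := by
  intro c hc
  exact h c (List.mem_reverse.mp hc)

theorem good_nil : Good [] := by
  intro c hc
  exact absurd hc List.not_mem_nil

theorem good_gw (k : ℕ) : Good (gw k) := by
  unfold gw
  by_cases hk : k < gwL.length
  · rw [List.getD_eq_getElem _ _ hk]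
    exact gw_lt _ (List.getElem_mem hk)
  · rw [List.getD_eq_default _ _ (Nat.le_of_not_lt hk)]
    exact good_nil

theorem good_wflat (w : List ℕ) : Good (wflat w) := by
  intro c hc
  unfold wflat at hc
  obtain ⟨k, _, hk⟩ := List.mem_flatMap.mp hc
  exact good_gw k c hk

theorem good_uw (n m : ℕ) : Good (uw n m) := by
  induction n with
  | zero => exact good_nil
  | succ n ih =>
    show Good (uw n m ++ (if m.testBit n then gw n else []))
    apply good_append ih
    split_ifs
    · exact good_gw n
    · exact good_nil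

theorem el_reverse {w : List ℕ} (h : Good w) : el w.reverse = (el w)⁻¹ := by
  have e : invw Cfsg.Agent.Lib.Helper6.TCP.Fi23.INV w = w.reverse := by
    unfold invw
    have : ∀ c ∈ w.reverse, invc Cfsg.Agent.Lib.Helper6.TCP.Fi23.INV c = id c := fun c hc => invc_eq c (h c (List.mem_reverse.mp hc))
    rw [List.map_congr_left this, List.map_id]
  have := mk_wordElt_invw (rels := Rels) (gc := gc) (INV := Cfsg.Agent.Lib.Helper6.TCP.Fi23.INV) (ncol := 10) hinvG w h
  rw [e] at this
  exact this

theorem base_mem_lt : ∀ b ∈ baseL, b < 31671 := by decide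

/-- a word that fixes the points of the base is trivial -/
theorem el_eq_one_of_fix {w : List ℕ} (hw : Good w) (h : chkFix w = true) : el w = 1 := by
  obtain ⟨φ, hφ, _, _, hcard, hfin⟩ := Cfsg.Agent.Lib.Helper6.Fi23Ord.rep
  have := hfin
  have hlb := Fi23aL.chain_lb (φ := φ) hφ
  have hbot := ptFix_eq_bot_of_card hlb (le_of_eq hcard) (by norm_num)
  have hall : ∀ b ∈ baseL, wapp px w b = b := by
    intro b hb
    have := List.all_eq_true.mp h b hb
    simpa using this
  apply mk_eq_one_of_fix_base hφ hbot w hw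
  intro b hb
  simp only [List.mem_cons, List.not_mem_nil, or_false] at hb
  rcases hb with rfl | rfl | rfl | rfl | rfl <;> exact hall _ (by decide)

/-- a word that moves a point is not trivial -/
theorem el_ne_one_of_moved {w : List ℕ} (hw : Good w) (b : ℕ) (hb : b < 31671)
    (h : wapp px w b ≠ b) : el w ≠ 1 := by
  obtain ⟨φ, hφ, _, _, _, _⟩ := Cfsg.Agent.Lib.Helper6.Fi23Ord.rep
  intro h1
  have h2 := hφ w hw ⟨b, hb⟩
  unfold el at h1
  rw [h1, map_one, inv_one] at h2
  exact h h2.symm

/-! ### the eighteen generators -/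

/-- the generators of the polycyclic sequence -/
noncomputable def pg (k : ℕ) : Fi23 := el (gw k)

theorem wp_el (w : List ℕ) : wp pg w = el (wflat w) := by
  induction w with
  | nil => rw [wp_nil]; exact el_nil.symm
  | cons k w ih =>
    rw [wp_cons, ih]
    show pg k * el (wflat w) = el (gw k ++ wflat w)
    rw [el_append]
    rfl

theorem chkRel_n {n : ℕ} (hn : n < 18) : chkRelN n = true :=
  List.all_eq_true.mp rel_ok n (List.mem_range.mpr hn)

theorem pg_sq {n : ℕ} (hn : n < 18) : pg n * pg n = 1 := by
  have h := chkRel_n hn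
  unfold chkRelN at h
  rw [Bool.and_eq_true] at h
  have h1 := el_eq_one_of_fix (good_append (good_gw n) (good_gw n)) h.1
  rw [el_append] at h1
  exact h1

theorem pg_inv {n : ℕ} (hn : n < 18) : (pg n)⁻¹ = pg n := inv_eq_of_mul_eq_one_right (pg_sq hn)

theorem pg_conj {n j : ℕ} (hn : n < 18) (hj : j < n) :
    pg n * pg j * (pg n)⁻¹ = wp pg (W n j) ∧ ∀ k ∈ W n j, k < n := by
  have h := chkRel_n hn
  unfold chkRelN at h
  rw [Bool.and_eq_true] at h
  have h2 := List.all_eq_true.mp h.2 j (List.mem_range.mpr hj)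
  rw [Bool.and_eq_true] at h2
  constructor
  · have hg : Good (gw n ++ gw j ++ gw n ++ (wflat (W n j)).reverse) :=
      good_append (good_append (good_append (good_gw n) (good_gw j)) (good_gw n))
        (good_reverse (good_wflat _))
    have h1 := el_eq_one_of_fix hg h2.1
    rw [el_append, el_append, el_append, el_reverse (good_wflat _), ← wp_el] at h1
    rw [pg_inv hn]
    exact mul_inv_eq_one.mp h1
  · intro k hk
    have := List.all_eq_true.mp h2.2 k hk
    simpa using this

theorem pcHyp18 : PcHyp pg 18 := by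
  intro n hn
  refine ⟨fun j hj => ?_, ?_⟩
  · obtain ⟨h1, h2⟩ := pg_conj hn hj
    rw [h1]
    exact wp_mem pg _ (fun k hk => ⟨Nat.zero_le _, h2 k hk⟩)
  · rw [pg_sq hn]
    exact (C pg 0 n).one_mem

theorem pcHyp11 : PcHyp pg 11 := fun n hn => pcHyp18 n (by omega)

theorem commInv11 : CommInv pg 11 := by
  have key : ∀ n < 11, ∀ j < n, pg n * pg j = pg j * pg n := by
    intro n hn j hj
    have h1 := (pg_conj (show n < 18 by omega) hj).1
    rw [W_low n hn j hj, wp_cons, wp_nil, mul_one] at h1
    exact mul_inv_eq_iff_eq_mul.mp h1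
  refine ⟨fun i hi j hj => ?_, fun i hi => pg_sq (by omega)⟩
  rcases Nat.lt_trichotomy i j with h | h | h
  · exact (key j hj i h).symm
  · rw [h]
  · exact key i hi j h

/-- the elements of the normal subgroup, numbered by the masks -/
noncomputable def um (m : ℕ) : Fi23 := U pg 11 m

theorem U_el (n m : ℕ) : U pg n m = el (uw n m) := by
  induction n with
  | zero => exact el_nil.symm
  | succ n ih =>
    show U pg n m * (if m.testBit n then pg n else 1) = el (uw n m ++ (if m.testBit n then gw n else []))
    rw [el_append, ih]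
    split_ifs
    · rfl
    · rw [el_nil]

theorem um_ne_one {m : ℕ} (hm : m < 2048) (h0 : m ≠ 0) : um m ≠ 1 := by
  have hall : chkU (256 * (m / 256)) 256 = true := by
    have h8 : m / 256 < 8 := by omega
    interval_cases (m / 256)
    · exact chkU_0
    · exact chkU_1
    · exact chkU_2
    · exact chkU_3
    · exact chkU_4
    · exact chkU_5
    · exact chkU_6
    · exact chkU_7
  unfold chkU at hall
  have h1 := List.all_eq_true.mp hall m (by
    rw [List.mem_range'_1]
    omega)
  rw [Bool.or_eq_true] at h1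
  rcases h1 with h1 | h1
  · exact absurd (beq_iff_eq.mp h1) h0
  · obtain ⟨b, hb, hmv⟩ := List.any_eq_true.mp h1
    unfold um
    rw [U_el]
    apply el_ne_one_of_moved (good_uw 11 m) b (base_mem_lt b hb)
    simpa using hmv

theorem um_xor (m m' : ℕ) : um (m ^^^ m') = um m * um m' := U_xor commInv11 11 le_rfl m m'

theorem um_inj {m m' : ℕ} (hm : m < 2048) (hm' : m' < 2048) (h : um m = um m') : m = m' := by
  by_contra hne
  have h1 : um (m ^^^ m') = 1 := by
    rw [um_xor, h]
    exact U_self commInv11 11 le_rfl m'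
  have h2 : m ^^^ m' < 2048 := Nat.xor_lt_two_pow (n := 11) hm hm'
  have h3 : m ^^^ m' ≠ 0 := by
    intro h0
    exact hne (Nat.xor_eq_zero_iff.mp h0)
  exact um_ne_one h2 h3 h1

/-- the normal subgroup -/
noncomputable def E0 : Subgroup Fi23 := C pg 0 11

/-- the Sylow subgroup -/
noncomputable def T0 : Subgroup Fi23 := C pg 0 18

theorem mem_E0_iff (y : Fi23) : y ∈ E0 ↔ ∃ m < 2048, y = um m := by
  unfold E0
  rw [mem_C_iff_U commInv11]
  rfl

theorem E0_le_T0 : E0 ≤ T0 := C_mono pg le_rfl (by norm_num)

theorem card_E0 : Nat.card E0 = 2048 := by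
  have hbij : Function.Bijective (fun m : Fin 2048 => (⟨um m.1, (mem_E0_iff _).mpr ⟨m.1, m.2, rfl⟩⟩ : E0)) := by
    constructor
    · intro m m' h
      have := congrArg Subtype.val h
      exact Fin.ext (um_inj m.2 m'.2 this)
    · rintro ⟨y, hy⟩
      obtain ⟨m, hm, rfl⟩ := (mem_E0_iff y).mp hy
      exact ⟨⟨m, hm⟩, rfl⟩
  rw [← Nat.card_eq_of_bijective _ hbij, Nat.card_eq_fintype_card, Fintype.card_fin]

theorem E0_comm : ∀ e ∈ E0, ∀ e' ∈ E0, e * e' = e' * e := by
  intro e he e' he'
  obtain ⟨m, _, rfl⟩ := (mem_E0_iff e).mp he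
  obtain ⟨m', _, rfl⟩ := (mem_E0_iff e').mp he'
  exact U_comm_U commInv11 11 11 le_rfl le_rfl m m'

end Cfsg.Agent.Lib.Helper6.Fi23S
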