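import Cfsg.Agent.Lib.Helper6.Fi23S.Fi23S4

set_option autoImplicit false
set_option maxRecDepth 100000

/-! # A Sylow `2`-subgroup of the presented group `Fi₂₃`: the normal elementary abelian subgroups -/

namespace Cfsg.Agent.Lib.Helper6.Fi23S

open Cfsg.Spor Cfsg.Agent.Lib.Helper6.TC Cfsg.Agent.Lib.Helper6.TCD
open Cfsg.Agent.Lib.Helper6.TCP.Fi23 Cfsg.Agent.Lib.Helper6.TCD.Fi23a
open Cfsg.Agent.Lib.Helper6.M24Syl (C gen_mem_C C_mono C_le wp wp_nil wp_cons wp_append wp_mem
  pc_step pc_isPGroup)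

theorem finite_Fi23 : Finite Fi23 := by
  obtain ⟨_, _, _, _, _, hfin⟩ := Cfsg.Agent.Lib.Helper6.Fi23Ord.rep
  exact hfin

theorem card_Fi23 : Nat.card Fi23 = 4089470473293004800 := by
  obtain ⟨_, _, _, _, hcard, _⟩ := Cfsg.Agent.Lib.Helper6.Fi23Ord.rep
  exact hcard

/-! ### the action of the upper generators -/

/-- conjugation by an upper generator -/
theorem pg_conj_um {n : ℕ} (hn : n < 18) (hn' : 11 ≤ n) (m : ℕ) :
    pg n * um m * (pg n)⁻¹ = um (appL (cmat n) m) := by
  have hc : ∀ j < 11, pg n * pg j * (pg n)⁻¹ = U pg 11 ((fun j => (cmat n).getD j 0) j) := by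
    intro j hj
    rw [(pg_conj hn (by omega)).1, wp_el, W_up n hn hn' j hj, ← U_el]
  exact conj_U commInv11 (pg n) _ hc 11 le_rfl m

/-- the letters of a word are upper generators -/
def Up (w : List ℕ) : Prop := ∀ k ∈ w, 11 ≤ k ∧ k < 18

theorem up_of_mem_TopL {w : List ℕ} (hw : w ∈ TopL) : Up w := by
  intro k hk
  have h1 : w.Sublist (List.range' 11 7) := List.mem_sublists.mp hw
  have h2 := h1.subset hk
  rw [List.mem_range'_1] at h2
  omega

theorem wp_conj_um {w : List ℕ} (hw : Up w) (m : ℕ) :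
    wp pg w * um m * (wp pg w)⁻¹ = um (actF w m) := by
  induction w with
  | nil =>
    rw [wp_nil]
    show 1 * um m * 1⁻¹ = um m
    group
  | cons k w ih =>
    have hk := hw k List.mem_cons_self
    have hw' : Up w := fun j hj => hw j (List.mem_cons_of_mem _ hj)
    rw [wp_cons]
    have e : pg k * wp pg w * um m * (pg k * wp pg w)⁻¹ =
        pg k * (wp pg w * um m * (wp pg w)⁻¹) * (pg k)⁻¹ := by group
    rw [e, ih hw', pg_conj_um hk.2 hk.1]
    rfl

/-! ### the normal form -/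

theorem T0_nf {a : Fi23} (ha : a ∈ T0) : ∃ e ∈ E0, ∃ w ∈ TopL, a = e * wp pg w := by
  have : Finite Fi23 := finite_Fi23
  obtain ⟨w, hw, rfl⟩ := nf_exists' pg 18 pcHyp18 18 le_rfl a ha
  have h18 : List.range 18 = List.range 11 ++ List.range' 11 7 := by decide
  rw [h18, List.sublist_append_iff] at hw
  obtain ⟨w1, w2, rfl, h1, h2⟩ := hw
  exact ⟨wp pg w1, wp_mem pg w1 (fun k hk => ⟨Nat.zero_le _, List.mem_range.mp (h1.subset hk)⟩),
    w2, List.mem_sublists.mpr h2, wp_append pg w1 w2⟩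

theorem matL_mem {w : List ℕ} (hw : w ∈ TopL) : matL w ∈ ML := by
  rw [← ML_eq]
  exact List.mem_map_of_mem hw

theorem matL_inj {w w' : List ℕ} (hw : w ∈ TopL) (hw' : w' ∈ TopL) (h : matL w = matL w') :
    w = w' := by
  have hnd : (TopL.map matL).Nodup := by
    rw [ML_eq]
    exact ML_nodup
  exact List.inj_on_of_nodup_map hnd hw hw' h

theorem nil_mem_TopL : ([] : List ℕ) ∈ TopL := List.mem_sublists.mpr (List.nil_sublist _)

/-- the action of an element in normal form -/
theorem nf_conj_um {e : Fi23} (he : e ∈ E0) {w : List ℕ} (hw : w ∈ TopL) {m : ℕ} (hm : m < 2048) :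
    (e * wp pg w) * um m * (e * wp pg w)⁻¹ = um (appL (matL w) m) := by
  have e1 : (e * wp pg w) * um m * (e * wp pg w)⁻¹ =
      e * (wp pg w * um m * (wp pg w)⁻¹) * e⁻¹ := by group
  rw [e1, wp_conj_um (up_of_mem_TopL hw), actF_eq w m hm]
  have h2 : um (appL (matL w) m) ∈ E0 := (mem_E0_iff _).mpr ⟨_, appL_lt (matL_mem hw) m, rfl⟩
  rw [E0_comm e he _ h2]
  group

theorem colOK_ext {X Y : List ℕ} (hX : colOK X = true) (hY : colOK Y = true)
    (h : ∀ m < 2048, appL X m = appL Y m) : X = Y := by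
  unfold colOK at hX hY
  have eX : X = (List.range 11).map (fun j => appL X (2 ^ j)) := by simpa using hX
  have eY : Y = (List.range 11).map (fun j => appL Y (2 ^ j)) := by simpa using hY
  rw [eX, eY]
  apply List.map_congr_left
  intro j hj
  have hj' : j < 11 := List.mem_range.mp hj
  apply h
  calc 2 ^ j < 2 ^ 11 := Nat.pow_lt_pow_right (by norm_num) hj'
    _ = 2048 := by norm_num

theorem ML_colOK {X : List ℕ} (hX : X ∈ ML) : colOK X = true := List.all_eq_true.mp ML_col X hX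

/-- the normal form is unique -/
theorem nf_unique {m m' : ℕ} (hm : m < 2048) (hm' : m' < 2048) {w w' : List ℕ} (hw : w ∈ TopL)
    (hw' : w' ∈ TopL) (h : um m * wp pg w = um m' * wp pg w') : m = m' ∧ w = w' := by
  have he : um m ∈ E0 := (mem_E0_iff _).mpr ⟨m, hm, rfl⟩
  have he' : um m' ∈ E0 := (mem_E0_iff _).mpr ⟨m', hm', rfl⟩
  have hmat : matL w = matL w' := by
    apply colOK_ext (ML_colOK (matL_mem hw)) (ML_colOK (matL_mem hw'))
    intro x hx
    have h1 := nf_conj_um he hw hx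
    have h2 := nf_conj_um he' hw' hx
    rw [h, h2] at h1
    exact (um_inj (appL_lt (matL_mem hw') x) (appL_lt (matL_mem hw) x) h1).symm
  have hww : w = w' := matL_inj hw hw' hmat
  subst hww
  exact ⟨um_inj hm hm' (mul_right_cancel h), rfl⟩

/-! ### the hypotheses on the offenders -/

theorem chkD2_spec {l : List (List ℕ)} (h : chkD2 l = true) :
    ∀ X ∈ l, ∀ Y ∈ invL, X ≠ Y → commM X Y = true → fixc2 X Y ≤ 64 := by
  intro X hX Y hY hne hc
  have h1 := List.all_eq_true.mp (List.all_eq_true.mp h X hX) Y hY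
  simp only [Bool.or_eq_true, beq_iff_eq, Bool.not_eq_true', decide_eq_true_eq] at h1
  rcases h1 with (h1 | h1) | h1
  · exact absurd h1 hne
  · rw [hc] at h1
    cases h1
  · exact h1

theorem offHyp : OffHyp T0 E0 um ML where
  hu_mem := fun m hm => (mem_E0_iff _).mpr ⟨m, hm, rfl⟩
  hu_surj := fun e he => (mem_E0_iff e).mp he
  hu_inj := fun m hm m' hm' h => um_inj hm hm' h
  hact := by
    intro a ha
    obtain ⟨e, he, w, hw, rfl⟩ := T0_nf ha
    refine ⟨matL w, matL_mem hw, fun m hm => ⟨nf_conj_um he hw hm, appL_lt (matL_mem hw) m⟩, ?_⟩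
    intro hid
    have hnil : w = [] := matL_inj hw nil_mem_TopL hid
    subst hnil
    rw [wp_nil, mul_one]
    exact he
  hcol := fun X hX => ML_colOK hX
  hD1 := by
    rw [invL_eq]
    intro X hX
    simpa using List.all_eq_true.mp ML_D1 X hX
  hD2 := by
    rw [invL_eq]
    intro X hX Y hY
    rw [invL_split] at hX
    simp only [List.mem_append] at hX
    rcases hX with (((((hX | hX) | hX) | hX) | hX) | hX) | hX
    · exact chkD2_spec ML_D2_0 X hX Y hY
    · exact chkD2_spec ML_D2_1 X hX Y hY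
    · exact chkD2_spec ML_D2_2 X hX Y hY
    · exact chkD2_spec ML_D2_3 X hX Y hY
    · exact chkD2_spec ML_D2_4 X hX Y hY
    · exact chkD2_spec ML_D2_5 X hX Y hY
    · exact chkD2_spec ML_D2_6 X hX Y hY
  hD4 := ML_D4

/-- the elementary abelian subgroups of the Sylow subgroup -/
theorem ea_bound (A : Subgroup Fi23) (hA : A ≤ T0) (hea : Cfsg.IsElementaryAbelian 2 A) :
    Nat.card A ≤ 2048 ∧ (Nat.card A = 2048 → A = E0) := by
  have : Finite Fi23 := finite_Fi23
  rcases off_main offHyp A hA hea with h | h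
  · have h1 : Nat.card A ≤ Nat.card E0 := Subgroup.card_le_of_le h
    rw [card_E0] at h1
    refine ⟨h1, fun h2 => ?_⟩
    exact Subgroup.eq_of_le_of_card_ge h (by rw [card_E0, h2])
  · exact ⟨by omega, fun h2 => by omega⟩

/-! ### the normal subgroup -/

theorem E0_normal : (E0.subgroupOf T0).Normal := by
  constructor
  intro x hx g
  rw [Subgroup.mem_subgroupOf] at hx ⊢
  obtain ⟨m, hm, hxm⟩ := (mem_E0_iff _).mp hx
  obtain ⟨X, hX, h1, _⟩ := offHyp.hact g.1 g.2
  have h2 := (h1 m hm).1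
  show (g.1 * x.1 * (g.1)⁻¹) ∈ E0
  rw [hxm, h2]
  exact (mem_E0_iff _).mpr ⟨_, (h1 m hm).2, rfl⟩

theorem E0_ea : Cfsg.IsElementaryAbelian 2 E0 := by
  refine ⟨⟨⟨fun a b => Subtype.ext (E0_comm a.1 a.2 b.1 b.2)⟩⟩, ?_⟩
  intro a ha
  obtain ⟨m, _, rfl⟩ := (mem_E0_iff a).mp ha
  rw [pow_two]
  exact U_self commInv11 11 le_rfl m

/-! ### the order -/

theorem TopL_getD_mem (i : Fin 128) : TopL.getD i.1 [] ∈ TopL := by
  have hi : i.1 < TopL.length := by
    rw [TopL_length]
    exact i.2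
  rw [List.getD_eq_getElem _ _ hi]
  exact List.getElem_mem hi

theorem TopL_nodup : TopL.Nodup := by
  have hnd : (TopL.map matL).Nodup := by
    rw [ML_eq]
    exact ML_nodup
  exact List.Nodup.of_map _ hnd

theorem TopL_getD_inj {i j : Fin 128} (h : TopL.getD i.1 [] = TopL.getD j.1 []) : i = j := by
  have hi : i.1 < TopL.length := by
    rw [TopL_length]
    exact i.2
  have hj : j.1 < TopL.length := by
    rw [TopL_length]
    exact j.2
  rw [List.getD_eq_getElem _ _ hi, List.getD_eq_getElem _ _ hj] at h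
  exact Fin.ext ((TopL_nodup.getElem_inj_iff).mp h)

theorem nf_mem_T0 {m : ℕ} (hm : m < 2048) {w : List ℕ} (hw : w ∈ TopL) : um m * wp pg w ∈ T0 := by
  apply T0.mul_mem
  · exact E0_le_T0 ((mem_E0_iff _).mpr ⟨m, hm, rfl⟩)
  · exact wp_mem pg w (fun k hk => ⟨Nat.zero_le _, (up_of_mem_TopL hw k hk).2⟩)

theorem card_T0 : Nat.card T0 = 2 ^ 18 := by
  have : Finite Fi23 := finite_Fi23
  apply le_antisymm
  · exact card_C_le pg 18 pcHyp18
  · let f : Fin 2048 × Fin 128 → T0 := fun p =>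
      ⟨um p.1.1 * wp pg (TopL.getD p.2.1 []), nf_mem_T0 p.1.2 (TopL_getD_mem p.2)⟩
    have hf : Function.Injective f := by
      intro p q h
      have h1 : um p.1.1 * wp pg (TopL.getD p.2.1 []) = um q.1.1 * wp pg (TopL.getD q.2.1 []) :=
        congrArg Subtype.val h
      obtain ⟨h2, h3⟩ := nf_unique p.1.2 q.1.2 (TopL_getD_mem p.2) (TopL_getD_mem q.2) h1
      exact Prod.ext (Fin.ext h2) (TopL_getD_inj h3)
    have h1 := Nat.card_le_card_of_injective f hf
    rw [Nat.card_prod, Nat.card_eq_fintype_card, Nat.card_eq_fintype_card, Fintype.card_fin,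
      Fintype.card_fin] at h1
    calc 2 ^ 18 = 2048 * 128 := by norm_num
      _ ≤ _ := h1

theorem fact_Fi23 : (Nat.card Fi23).factorization 2 = 18 := by
  rw [card_Fi23]
  have e : (4089470473293004800 : ℕ) = 2 ^ 18 * 15600091832325 := by norm_num
  rw [e, Nat.factorization_mul (by norm_num) (by norm_num), Nat.Prime.factorization_pow Nat.prime_two]
  have h0 : (15600091832325 : ℕ).factorization 2 = 0 :=
    Nat.factorization_eq_zero_of_not_dvd (by norm_num)
  simp [h0]

/-- the Sylow subgroup -/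
noncomputable def ST0 : Sylow 2 Fi23 :=
  haveI : Finite Fi23 := finite_Fi23
  haveI : Fact (Nat.Prime 2) := ⟨Nat.prime_two⟩
  Sylow.ofCard T0 (by rw [card_T0, fact_Fi23])

theorem ST0_coe : (ST0 : Subgroup Fi23) = T0 := rfl

end Cfsg.Agent.Lib.Helper6.Fi23S
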