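import Cfsg.Agent.Lib.Helper6.Fi23S.Fi23S5
import Cfsg.Agent.Lib.Helper6.Conj

set_option autoImplicit false

/-! # The normal elementary abelian subgroups of a Sylow subgroup: transport to every Sylow subgroup -/

namespace Cfsg.Agent.Lib.Helper6.Fi23S

open Cfsg.Agent.Lib.Helper6 (mem_map_conj map_conj_map_conj map_conj_one sylow_smul_eq_map_conj)

section transport
variable {G : Type*} [Group G]

theorem ea_map_conj {p : ℕ} {A : Subgroup G} (h : Cfsg.IsElementaryAbelian p A) (g : G) :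
    Cfsg.IsElementaryAbelian p (A.map (MulAut.conj g).toMonoidHom) := by
  obtain ⟨hc, hp⟩ := h
  refine ⟨⟨⟨?_⟩⟩, ?_⟩
  · rintro ⟨x, hx⟩ ⟨y, hy⟩
    apply Subtype.ext
    show x * y = y * x
    rw [mem_map_conj] at hx hy
    have h1 := congrArg Subtype.val (hc.is_comm.comm ⟨_, hx⟩ ⟨_, hy⟩)
    have h2 : g⁻¹ * x * g * (g⁻¹ * y * g) = g⁻¹ * y * g * (g⁻¹ * x * g) := h1
    calc x * y = g * (g⁻¹ * x * g * (g⁻¹ * y * g)) * g⁻¹ := by group
      _ = g * (g⁻¹ * y * g * (g⁻¹ * x * g)) * g⁻¹ := by rw [h2]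
      _ = y * x := by group
  · intro a ha
    rw [mem_map_conj] at ha
    have h1 := hp _ ha
    have h2 : (g⁻¹ * a * g) ^ p = g⁻¹ * a ^ p * g := by
      have := map_pow (MulAut.conj g⁻¹) a p
      simpa [MulAut.conj_apply] using this.symm
    rw [h2] at h1
    calc a ^ p = g * (g⁻¹ * a ^ p * g) * g⁻¹ := by group
      _ = 1 := by rw [h1]; group

theorem card_map_conj (A : Subgroup G) (g : G) :
    Nat.card (A.map (MulAut.conj g).toMonoidHom) = Nat.card A :=
  Subgroup.card_map_of_injective (MulAut.conj g).injective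

theorem normal_map_conj {A T : Subgroup G} (hA : A ≤ T) (hn : (A.subgroupOf T).Normal) (g : G) :
    ((A.map (MulAut.conj g).toMonoidHom).subgroupOf (T.map (MulAut.conj g).toMonoidHom)).Normal := by
  have hA' : A.map (MulAut.conj g).toMonoidHom ≤ T.map (MulAut.conj g).toMonoidHom :=
    Subgroup.map_mono hA
  rw [Subgroup.normal_subgroupOf_iff_le_normalizer hA] at hn
  rw [Subgroup.normal_subgroupOf_iff_le_normalizer hA']
  intro t ht
  rw [mem_map_conj] at ht
  have h1 := hn ht
  rw [Subgroup.mem_normalizer_iff] at h1 ⊢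
  intro x
  rw [mem_map_conj, mem_map_conj]
  have h2 := h1 (g⁻¹ * x * g)
  have e : g⁻¹ * t * g * (g⁻¹ * x * g) * (g⁻¹ * t * g)⁻¹ = g⁻¹ * (t * x * t⁻¹) * g := by group
  rw [e] at h2
  exact h2

theorem map_conj_inv_map_conj (A : Subgroup G) (g : G) :
    (A.map (MulAut.conj g⁻¹).toMonoidHom).map (MulAut.conj g).toMonoidHom = A := by
  rw [map_conj_map_conj, mul_inv_cancel, map_conj_one]

theorem map_conj_map_conj_inv (A : Subgroup G) (g : G) :
    (A.map (MulAut.conj g).toMonoidHom).map (MulAut.conj g⁻¹).toMonoidHom = A := by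
  rw [map_conj_map_conj, inv_mul_cancel, map_conj_one]

/-- a bound on the elementary abelian subgroups of one Sylow subgroup, with a unique normal one
that attains it, holds in every Sylow subgroup -/
theorem sylow_ea_transport [Finite G] {p : ℕ} [Fact p.Prime] (T0 : Sylow p G) (E0 : Subgroup G)
    (N : ℕ) (hE0 : E0 ≤ T0) (hE0n : (E0.subgroupOf (T0 : Subgroup G)).Normal)
    (hE0ea : Cfsg.IsElementaryAbelian p E0) (hcard : Nat.card E0 = N)
    (hbound : ∀ A : Subgroup G, A ≤ T0 → Cfsg.IsElementaryAbelian p A →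
      Nat.card A ≤ N ∧ (Nat.card A = N → A = E0))
    (T : Sylow p G) :
    (∀ A : Subgroup G, A ≤ T → (A.subgroupOf T).Normal → Cfsg.IsElementaryAbelian p A →
        Nat.card A ≤ N) ∧
    ∃! A : Subgroup G, A ≤ T ∧ (A.subgroupOf T).Normal ∧ Cfsg.IsElementaryAbelian p A ∧
        Nat.card A = N := by
  obtain ⟨g, hg⟩ := MulAction.exists_smul_eq G T0 T
  have hT : (T : Subgroup G) = (T0 : Subgroup G).map (MulAut.conj g).toMonoidHom := by
    rw [← hg, sylow_smul_eq_map_conj]
  have hT0 : (T0 : Subgroup G) = (T : Subgroup G).map (MulAut.conj g⁻¹).toMonoidHom := by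
    rw [hT, map_conj_map_conj_inv]
  have back : ∀ A : Subgroup G, A ≤ T → A.map (MulAut.conj g⁻¹).toMonoidHom ≤ T0 := by
    intro A hA
    rw [hT0]
    exact Subgroup.map_mono hA
  refine ⟨?_, ?_⟩
  · intro A hA _ hea
    have h1 := (hbound _ (back A hA) (ea_map_conj hea g⁻¹)).1
    rw [card_map_conj] at h1
    exact h1
  · refine ⟨E0.map (MulAut.conj g).toMonoidHom, ⟨?_, ?_, ea_map_conj hE0ea g, ?_⟩, ?_⟩
    · rw [hT]
      exact Subgroup.map_mono hE0
    · rw [hT]
      exact normal_map_conj hE0 hE0n g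
    · rw [card_map_conj, hcard]
    · rintro A ⟨hA, _, hea, hc⟩
      have h1 := (hbound _ (back A hA) (ea_map_conj hea g⁻¹)).2
      rw [card_map_conj] at h1
      have h2 := h1 hc
      rw [← h2, map_conj_inv_map_conj]

end transport

end Cfsg.Agent.Lib.Helper6.Fi23S
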